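import Mathlib

/-!
# Descent of the Jacobson property along faithfully flat algebras of finite type

Over a valuation ring `V` a flat algebra of finite type with nonempty closed fibre has a prime of the
generic fibre, algebraic over `V`, specialising to the closed fibre (lift a Noether normalisation of
the closed fibre, then Zariski main theorem and going down over the normal ring `V[y]`).
-/

set_option autoImplicit false
set_option linter.style.haveILetI false

universe u

namespace Groth.Agent.JacDesc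

set_option maxRecDepth 4000

open MvPolynomial (aeval)

theorem isIntegrallyClosed_mvPolynomial (R : Type u) [CommRing R] [IsDomain R] [IsIntegrallyClosed R] :
    ∀ n : ℕ, IsIntegrallyClosed (MvPolynomial (Fin n) R)
  | 0 => .of_equiv (MvPolynomial.isEmptyRingEquiv R (Fin 0)).symm
  | n + 1 =>
    have := isIntegrallyClosed_mvPolynomial R n
    .of_equiv (MvPolynomial.finSuccEquiv R n).toRingEquiv.symm

theorem exists_dvd_all {V : Type u} [CommRing V] [IsDomain V] [ValuationRing V] {ι : Type*}
    (c : ι → V) (s : Finset ι) (hs : s.Nonempty) : ∃ m ∈ s, ∀ i ∈ s, c m ∣ c i := by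
  induction hs using Finset.Nonempty.cons_induction with
  | singleton a => exact ⟨a, by simp, by simp⟩
  | cons a s _ _ ih =>
    obtain ⟨m, hm, h⟩ := ih
    rcases ValuationRing.dvd_total (c a) (c m) with h' | h'
    · refine ⟨a, Finset.mem_cons_self .., fun i hi => ?_⟩
      rcases Finset.mem_cons.mp hi with rfl | hi
      · exact dvd_rfl
      · exact h'.trans (h i hi)
    · refine ⟨m, Finset.mem_cons.mpr (Or.inr hm), fun i hi => ?_⟩
      rcases Finset.mem_cons.mp hi with rfl | hi
      · exact h'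
      · exact h i hi

theorem exists_primitive {V : Type u} [CommRing V] [IsDomain V] [ValuationRing V] {σ : Type*}
    (F : MvPolynomial σ V) (hF : F ≠ 0) :
    ∃ c : V, c ≠ 0 ∧ ∃ F', F = MvPolynomial.C c * F' ∧ ∃ m, MvPolynomial.coeff m F' = 1 := by
  obtain ⟨m, hm, hdvd⟩ := exists_dvd_all (fun i => MvPolynomial.coeff i F) F.support
    (MvPolynomial.support_nonempty.mpr hF)
  have hc : MvPolynomial.coeff m F ≠ 0 := MvPolynomial.mem_support_iff.mp hm
  obtain ⟨F', hF'⟩ : MvPolynomial.C (MvPolynomial.coeff m F) ∣ F := by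
    rw [MvPolynomial.C_dvd_iff_dvd_coeff]
    intro i
    by_cases hi : i ∈ F.support
    · exact hdvd i hi
    · rw [MvPolynomial.notMem_support_iff.mp hi]; exact dvd_zero _
  refine ⟨_, hc, F', hF', m, mul_left_cancel₀ hc ?_⟩
  rw [← MvPolynomial.coeff_C_mul, ← hF', mul_one]

/-- The part after Noether normalisation: a domain over `V[y]`, quasi-finite at `q` over the origin. -/
theorem exists_prime_over_origin {V : Type u} [CommRing V] [IsDomain V] [ValuationRing V] {n : ℕ}
    {C : Type u} [CommRing C] [IsDomain C] [Algebra (MvPolynomial (Fin n) V) C]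
    [Algebra V C] [IsScalarTower V (MvPolynomial (Fin n) V) C]
    [Algebra.FiniteType (MvPolynomial (Fin n) V) C]
    (hinj : Function.Injective (algebraMap (MvPolynomial (Fin n) V) C))
    (q : Ideal C) [q.IsPrime] (hqf : Algebra.WeaklyQuasiFiniteAt (MvPolynomial (Fin n) V) q)
    (hq : ∀ i, algebraMap (MvPolynomial (Fin n) V) C (MvPolynomial.X i) ∈ q) :
    ∃ P : Ideal C, P.IsPrime ∧ P ≤ q ∧ P.comap (algebraMap V C) = ⊥ ∧
      Algebra.IsAlgebraic V (C ⧸ P) := by
  classical
  haveI : IsIntegrallyClosed V := inferInstance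
  haveI : IsIntegrallyClosed (MvPolynomial (Fin n) V) := isIntegrallyClosed_mvPolynomial V n
  let ev : MvPolynomial (Fin n) V →ₐ[V] V := MvPolynomial.aeval 0
  let p0 : Ideal (MvPolynomial (Fin n) V) := RingHom.ker ev
  haveI : p0.IsPrime := RingHom.ker_isPrime _
  have hev : ∀ F, F - MvPolynomial.C (ev F) ∈ Ideal.span (Set.range (MvPolynomial.X : Fin n → MvPolynomial (Fin n) V)) := by
    intro F
    induction F using MvPolynomial.induction_on with
    | C a => simp [ev]
    | add a b ha hb =>
      rw [map_add, map_add, add_sub_add_comm]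
      exact add_mem ha hb
    | mul_X a i _ =>
      simp only [ev, map_mul, MvPolynomial.aeval_X, Pi.zero_apply, map_zero, mul_zero, sub_zero]
      exact Ideal.mul_mem_left _ _ (Ideal.subset_span ⟨i, rfl⟩)
  let D := integralClosure (MvPolynomial (Fin n) V) C
  obtain ⟨r, hrq, hrint, hr⟩ := Algebra.zariskisMainProperty_iff.mp
    (Algebra.ZariskisMainProperty.of_finiteType_of_weaklyQuasiFiniteAt
      (R := MvPolynomial (Fin n) V) q)
  haveI : FaithfulSMul (MvPolynomial (Fin n) V) D :=
    (faithfulSMul_iff_algebraMap_injective _ _).mpr fun a b h => hinj (congrArg Subtype.val h)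
  let qD : Ideal D := q.comap D.val.toRingHom
  have hp0 : p0 ≤ qD.comap (algebraMap (MvPolynomial (Fin n) V) D) := by
    intro F hF
    have h := hev F
    rw [show ev F = 0 from hF, map_zero, sub_zero] at h
    refine (Ideal.span_le (I := qD.comap _)).mpr ?_ h
    rintro _ ⟨i, rfl⟩
    exact hq i
  obtain ⟨PD, hPD, hPDp, hPDo⟩ := Ideal.exists_ideal_le_liesOver_of_le (p := p0)
    (q := qD.comap (algebraMap (MvPolynomial (Fin n) V) D)) qD hp0
  haveI := hPDp
  let ι : D →+* C := D.val.toRingHom
  have hrP : (⟨r, hrint⟩ : D) ∉ PD := fun h => hrq (hPD h)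
  have hcomap : (PD.map ι).comap ι = PD := by
    refine le_antisymm (fun x hx => ?_) Ideal.le_comap_map
    have key : ∀ y : C, y ∈ PD.map ι → ∃ m, ∃ z ∈ PD, ι z = r ^ m * y := by
      intro y hy
      induction hy using Submodule.span_induction with
      | mem y hy => obtain ⟨z, hz, rfl⟩ := hy; exact ⟨0, z, hz, by simp⟩
      | zero => exact ⟨0, 0, zero_mem _, by simp⟩
      | add a b _ _ iha ihb =>
        obtain ⟨m, za, hza, ea⟩ := iha
        obtain ⟨k, zb, hzb, eb⟩ := ihb
        refine ⟨m + k, (⟨r, hrint⟩ : D) ^ k * za + (⟨r, hrint⟩ : D) ^ m * zb,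
          add_mem (PD.mul_mem_left _ hza) (PD.mul_mem_left _ hzb), ?_⟩
        rw [map_add, map_mul, map_mul, map_pow, map_pow, ea, eb]
        change r ^ k * _ + r ^ m * _ = _
        ring
      | smul c b _ ihb =>
        obtain ⟨m, zb, hzb, eb⟩ := ihb
        obtain ⟨k, hk⟩ := hr c
        refine ⟨k + m, (⟨r ^ k * c, hk⟩ : D) * zb, PD.mul_mem_left _ hzb, ?_⟩
        rw [map_mul, eb, smul_eq_mul]
        change r ^ k * c * _ = _
        ring
    obtain ⟨m, z, hz, e⟩ := key _ hx
    have : z = (⟨r, hrint⟩ : D) ^ m * x := Subtype.ext (by simpa [ι] using e)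
    rw [this] at hz
    exact (hPDp.mem_or_mem hz).resolve_left fun h => hrP (hPDp.mem_of_pow_mem m h)
  obtain ⟨P, hPprime, hP⟩ := (Ideal.comap_map_eq_self_iff_of_isPrime _).mp hcomap
  haveI := hPprime
  have hPle : P ≤ q := by
    intro x hx
    obtain ⟨k, hk⟩ := hr x
    have h1 : (⟨r ^ k * x, hk⟩ : D) ∈ PD := by
      rw [← hP]
      exact P.mul_mem_left _ hx
    exact ((inferInstance : q.IsPrime).mem_or_mem (hPD h1 : r ^ k * x ∈ q)).resolve_left
      fun h => hrq ((inferInstance : q.IsPrime).mem_of_pow_mem k h)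
  have hover : P.comap (algebraMap (MvPolynomial (Fin n) V) C) = p0 := by
    rw [hPDo.over, Ideal.under_def, ← hP, Ideal.comap_comap]
    rfl
  refine ⟨P, hPprime, hPle, ?_, ⟨fun x => ?_⟩⟩
  · rw [IsScalarTower.algebraMap_eq V (MvPolynomial (Fin n) V) C, ← Ideal.comap_comap, hover]
    refine (Submodule.eq_bot_iff _).mpr (fun a ha => ?_)
    simpa [p0, ev] using ha
  · obtain ⟨x, rfl⟩ := Ideal.Quotient.mk_surjective x
    obtain ⟨k, hk⟩ := hr x
    have hdesc : ∀ y : C, IsIntegral (MvPolynomial (Fin n) V) y →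
        IsIntegral V (Ideal.Quotient.mk P y) := by
      intro y hy
      obtain ⟨G, hG, hGy⟩ := hy
      refine ⟨G.map ev.toRingHom, hG.map _, ?_⟩
      rw [Polynomial.eval₂_map]
      have : (algebraMap V (C ⧸ P)).comp ev.toRingHom =
          (Ideal.Quotient.mk P).comp (algebraMap (MvPolynomial (Fin n) V) C) := by
        refine MvPolynomial.ringHom_ext (fun a => ?_) (fun i => ?_)
        · simp only [RingHom.comp_apply, AlgHom.toRingHom_eq_coe, RingHom.coe_coe, ev, MvPolynomial.aeval_C,
            Algebra.algebraMap_self_apply]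
          rw [← MvPolynomial.algebraMap_eq, ← IsScalarTower.algebraMap_apply]
          rfl
        · have : MvPolynomial.X i ∈ p0 := by simp [p0, ev]
          rw [← hover] at this
          have h0 : Ideal.Quotient.mk P (algebraMap (MvPolynomial (Fin n) V) C (MvPolynomial.X i)) = 0 :=
            Ideal.Quotient.eq_zero_iff_mem.mpr this
          simp only [RingHom.comp_apply, AlgHom.toRingHom_eq_coe, RingHom.coe_coe, ev, MvPolynomial.aeval_X,
            Pi.zero_apply, map_zero, h0]
      rw [this, ← Polynomial.hom_eval₂, hGy, map_zero]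
    have hr' : Ideal.Quotient.mk P r ^ k ≠ 0 :=
      pow_ne_zero _ fun h => hrP (hP.le (Ideal.Quotient.eq_zero_iff_mem.mp h : r ∈ P))
    have h1 : IsAlgebraic V (Ideal.Quotient.mk P r ^ k * Ideal.Quotient.mk P x) := by
      rw [← map_pow, ← map_mul]; exact (hdesc _ hk).isAlgebraic
    exact IsAlgebraic.of_mul (mem_nonZeroDivisors_of_ne_zero hr') ((hdesc r hrint).pow k).isAlgebraic
      (mul_comm (Ideal.Quotient.mk P r ^ k) _ ▸ h1)

/-- A flat algebra of finite type over a valuation ring with nonempty closed fibre has an algebraic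
point of the generic fibre specialising to the closed fibre. -/
theorem exists_prime_algebraic {V C : Type u} [CommRing V] [IsDomain V] [ValuationRing V]
    [CommRing C] [Algebra V C] [Module.Flat V C] [Algebra.FiniteType V C]
    (hne : (IsLocalRing.maximalIdeal V).map (algebraMap V C) ≠ ⊤) :
    ∃ P q : Ideal C, P.IsPrime ∧ q.IsPrime ∧ P ≤ q ∧ P.comap (algebraMap V C) = ⊥ ∧
      q.comap (algebraMap V C) = IsLocalRing.maximalIdeal V ∧ Algebra.IsAlgebraic V (C ⧸ P) := by
  classical
  let m := IsLocalRing.maximalIdeal V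
  let mC : Ideal C := m.map (algebraMap V C)
  letI : Field (V ⧸ m) := Ideal.Quotient.field m
  haveI : Nontrivial (C ⧸ mC) := Ideal.Quotient.nontrivial_iff.mpr hne
  haveI : Algebra.FiniteType V (C ⧸ mC) :=
    Algebra.FiniteType.of_surjective (Ideal.Quotient.mkₐ V mC) Ideal.Quotient.mk_surjective
  haveI : Algebra.FiniteType (V ⧸ m) (C ⧸ mC) := .of_restrictScalars_finiteType V _ _
  obtain ⟨n, g, hginj, hgint⟩ := exists_integral_inj_algHom_of_fg (V ⧸ m) (C ⧸ mC)
  choose t ht using fun i => Ideal.Quotient.mk_surjective (I := mC) (g (MvPolynomial.X i))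
  let φ : MvPolynomial (Fin n) V →ₐ[V] C := aeval t
  let red : MvPolynomial (Fin n) V →+* MvPolynomial (Fin n) (V ⧸ m) :=
    MvPolynomial.map (Ideal.Quotient.mk m)
  have hsq : g.toRingHom.comp red = (Ideal.Quotient.mk mC).comp φ.toRingHom := by
    refine MvPolynomial.ringHom_ext (fun a => ?_) (fun i => ?_)
    · simp only [RingHom.comp_apply, red, MvPolynomial.map_C, AlgHom.toRingHom_eq_coe, RingHom.coe_coe,
        φ, MvPolynomial.aeval_C]
      exact (g.commutes _).trans rfl
    · simp [red, φ, ht]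
  have hredsurj : Function.Surjective red := MvPolynomial.map_surjective _ Ideal.Quotient.mk_surjective
  letI : Algebra (MvPolynomial (Fin n) (V ⧸ m)) (C ⧸ mC) := g.toRingHom.toAlgebra
  haveI : Algebra.IsIntegral (MvPolynomial (Fin n) (V ⧸ m)) (C ⧸ mC) := ⟨hgint⟩
  obtain ⟨Q0, -, hQ0, hQ0c⟩ := Ideal.exists_ideal_over_prime_of_isIntegral
    (⊥ : Ideal (MvPolynomial (Fin n) (V ⧸ m))) (⊥ : Ideal (C ⧸ mC))
    (by rw [← RingHom.ker_eq_comap_bot]; exact ((RingHom.injective_iff_ker_eq_bot _).mp hginj).le)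
  haveI := hQ0
  haveI : (RingHom.ker (MvPolynomial.aeval (R := V ⧸ m) (0 : Fin n → V ⧸ m))).IsPrime :=
    RingHom.ker_isPrime _
  obtain ⟨Q1, hQ1le, hQ1, hQ1c⟩ := Ideal.exists_ideal_over_prime_of_isIntegral
    (RingHom.ker (MvPolynomial.aeval (R := V ⧸ m) (0 : Fin n → V ⧸ m))) Q0
    (by rw [hQ0c]; exact bot_le)
  haveI := hQ1
  let q0 : Ideal C := Q0.comap (Ideal.Quotient.mk mC)
  let q : Ideal C := Q1.comap (Ideal.Quotient.mk mC)
  have hqm : q.comap (algebraMap V C) = m := by
    refine ((IsLocalRing.maximalIdeal.isMaximal V).eq_of_le ?_ ?_).symm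
    · exact (Ideal.comap_isPrime (algebraMap V C) q).ne_top
    · intro a ha
      have : Ideal.Quotient.mk mC (algebraMap V C a) = 0 :=
        Ideal.Quotient.eq_zero_iff_mem.mpr (Ideal.mem_map_of_mem _ ha)
      simp only [q, Ideal.mem_comap, this, zero_mem]
  have : (⊥ : Ideal C) ≤ q0 := bot_le
  obtain ⟨Q, ⟨⟨hQ, -⟩, hQmin⟩, hQle⟩ := Ideal.exists_minimalPrimes_le this
  haveI := hQ
  have hQbot : Q.comap (algebraMap V C) = ⊥ := by
    by_contra h
    obtain ⟨Q', hlt, hQ', -⟩ := Ideal.exists_ideal_lt_liesOver_of_lt (p := (⊥ : Ideal V))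
      (q := Q.comap (algebraMap V C)) Q (lt_of_le_of_ne bot_le (Ne.symm h))
    exact hlt.not_ge (hQmin ⟨hQ', bot_le⟩ hlt.le)
  have hφQ : ∀ F, φ F ∈ Q → F = 0 := by
    intro F hF
    by_contra hne0
    obtain ⟨c, hc, F', rfl, j, hj⟩ := exists_primitive F hne0
    rw [map_mul] at hF
    have hF' : φ F' ∈ Q := (hQ.mem_or_mem hF).resolve_left fun h => hc (by
      have h0 : algebraMap V C c ∈ Q := by simpa only [φ, MvPolynomial.aeval_C] using h
      have : c ∈ Q.comap (algebraMap V C) := h0
      rw [hQbot] at this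
      exact Ideal.mem_bot.mp this)
    have h1 : g (red F') ∈ Q0 := by
      have := congrFun (congrArg DFunLike.coe hsq) F'
      simp only [RingHom.comp_apply, AlgHom.toRingHom_eq_coe, RingHom.coe_coe] at this
      rw [this]
      exact hQle hF'
    have h2 : red F' ∈ (⊥ : Ideal (MvPolynomial (Fin n) (V ⧸ m))) := by rw [← hQ0c]; exact h1
    have h3 := congrArg (MvPolynomial.coeff j) (Ideal.mem_bot.mp h2)
    rw [MvPolynomial.coeff_map, hj, map_one, MvPolynomial.coeff_zero] at h3
    exact one_ne_zero h3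
  let R := MvPolynomial (Fin n) V
  letI algR : Algebra R (C ⧸ Q) := ((Ideal.Quotient.mk Q).comp φ.toRingHom).toAlgebra
  haveI : IsScalarTower V R (C ⧸ Q) := IsScalarTower.of_algebraMap_eq fun a => by
    rw [RingHom.algebraMap_toAlgebra, RingHom.comp_apply]
    exact congrArg (Ideal.Quotient.mk Q) (φ.commutes a).symm
  haveI : Algebra.FiniteType V (C ⧸ Q) :=
    Algebra.FiniteType.of_surjective (Ideal.Quotient.mkₐ V Q) Ideal.Quotient.mk_surjective
  haveI : Algebra.FiniteType R (C ⧸ Q) := .of_restrictScalars_finiteType V _ _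
  have hQq : Q ≤ q := hQle.trans (Ideal.comap_mono hQ1le)
  let q' : Ideal (C ⧸ Q) := q.map (Ideal.Quotient.mk Q)
  haveI : q'.IsPrime := Ideal.map_isPrime_of_surjective Ideal.Quotient.mk_surjective (by simpa using hQq)
  have hmemq' : ∀ x : C, Ideal.Quotient.mk Q x ∈ q' ↔ x ∈ q := by
    intro x
    rw [← Ideal.mem_comap, Ideal.comap_map_of_surjective _ Ideal.Quotient.mk_surjective,
      ← RingHom.ker_eq_comap_bot, Ideal.mk_ker, sup_eq_left.mpr hQq]
  have hX : ∀ i, algebraMap R (C ⧸ Q) (MvPolynomial.X i) ∈ q' := by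
    intro i
    change Ideal.Quotient.mk Q (φ (MvPolynomial.X i)) ∈ q'
    rw [hmemq']
    simp only [φ, MvPolynomial.aeval_X, q, Ideal.mem_comap, ht]
    change MvPolynomial.X i ∈ Q1.comap (algebraMap (MvPolynomial (Fin n) (V ⧸ m)) (C ⧸ mC))
    rw [hQ1c]
    simp
  let I := (q'.under R).map (algebraMap R (C ⧸ Q))
  have hmI : ∀ x ∈ mC, Ideal.Quotient.mk Q x ∈ I := by
    intro x hx
    induction hx using Submodule.span_induction with
    | mem y hy =>
      obtain ⟨a, ha, rfl⟩ := hy
      rw [show Ideal.Quotient.mk Q (algebraMap V C a) = algebraMap R (C ⧸ Q) (algebraMap V R a) by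
        rw [← IsScalarTower.algebraMap_apply]; rfl]
      refine Ideal.mem_map_of_mem _ ?_
      change algebraMap R (C ⧸ Q) (algebraMap V R a) ∈ q'
      rw [← IsScalarTower.algebraMap_apply]
      change Ideal.Quotient.mk Q (algebraMap V C a) ∈ q'
      rw [hmemq']
      rw [← hqm] at ha
      exact ha
    | zero => simp
    | add a b _ _ ha hb => rw [map_add]; exact add_mem ha hb
    | smul a b _ hb => rw [smul_eq_mul, map_mul]; exact I.mul_mem_left _ hb
  haveI : Algebra.IsIntegral R ((C ⧸ Q) ⧸ I) := ⟨fun z => by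
    obtain ⟨z, rfl⟩ := Ideal.Quotient.mk_surjective z
    obtain ⟨x, rfl⟩ := Ideal.Quotient.mk_surjective z
    obtain ⟨G, hG, hGx⟩ := hgint (Ideal.Quotient.mk mC x)
    obtain ⟨G', hG'map, -, hG'⟩ := Polynomial.lifts_and_degree_eq_and_monic
      ((Polynomial.lifts_iff_coeff_lifts G).mpr fun i => hredsurj _) hG
    refine ⟨G', hG', ?_⟩
    have hmem : Polynomial.eval₂ φ.toRingHom x G' ∈ mC := by
      rw [← Ideal.Quotient.eq_zero_iff_mem, Polynomial.hom_eval₂, ← hsq, ← Polynomial.eval₂_map,
        hG'map]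
      exact hGx
    rw [← Ideal.Quotient.algebraMap_eq, IsScalarTower.algebraMap_eq R (C ⧸ Q) ((C ⧸ Q) ⧸ I),
      ← Polynomial.hom_eval₂, Ideal.Quotient.algebraMap_eq, Ideal.Quotient.eq_zero_iff_mem,
      RingHom.algebraMap_toAlgebra, ← Polynomial.hom_eval₂]
    exact hmI _ hmem⟩
  haveI : Algebra.FiniteType R ((C ⧸ Q) ⧸ I) :=
    Algebra.FiniteType.of_surjective (Ideal.Quotient.mkₐ R I) Ideal.Quotient.mk_surjective
  haveI : Module.Finite R ((C ⧸ Q) ⧸ I) := Algebra.IsIntegral.finite
  have hqf : Algebra.WeaklyQuasiFiniteAt R q' := inferInstance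
  obtain ⟨P, hP, hPle, hPbot, hPalg⟩ := exists_prime_over_origin (V := V) (n := n) (C := C ⧸ Q)
    (fun a b h => sub_eq_zero.mp (hφQ _ (by
      rw [← Ideal.Quotient.eq_zero_iff_mem, map_sub, map_sub, sub_eq_zero]; exact h)))
    q' hqf hX
  refine ⟨P.comap (Ideal.Quotient.mk Q), q, inferInstance, inferInstance, fun x hx => ?_, ?_, hqm, ?_⟩
  · exact (hmemq' x).mp (hPle hx)
  · rw [Ideal.comap_comap]; exact hPbot
  · haveI := hPalg
    refine Algebra.IsAlgebraic.of_injective
      (Ideal.quotientMapₐ P (Ideal.Quotient.mkₐ V Q) le_rfl) ?_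
    exact Ideal.quotientMap_injective

/-- The Jacobson property descends along faithfully flat algebras of finite type. -/
theorem isJacobsonRing (A B : Type u) [CommRing A] [CommRing B] [Algebra A B]
    [Module.FaithfullyFlat A B] [Algebra.FiniteType A B] [IsJacobsonRing B] : IsJacobsonRing A := by
  classical
  rw [isJacobsonRing_iff_prime_eq]
  intro p hp
  refine le_antisymm (fun f hf => ?_) Ideal.le_jacobson
  by_contra hfp
  obtain ⟨M, hM, hMle⟩ := Ideal.exists_le_maximal (p.map (algebraMap A (Localization.Away f)))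
    ((IsLocalization.map_algebraMap_ne_top_iff_disjoint (Submonoid.powers f) (Localization.Away f) p).mpr (by
      rw [Set.disjoint_left]
      rintro _ ⟨k, rfl⟩ h
      exact hfp (hp.mem_of_pow_mem k h)))
  let p' : Ideal A := M.comap (algebraMap A (Localization.Away f))
  haveI : p'.IsPrime := Ideal.comap_isPrime _ _
  have hpp' : p ≤ p' := Ideal.map_le_iff_le_comap.mp hMle
  have hfp' : f ∉ p' := fun h => hM.ne_top
    (Ideal.eq_top_of_isUnit_mem _ h (IsLocalization.Away.algebraMap_isUnit f))
  have hmaxp' : ∀ Q : Ideal A, Q.IsPrime → p' ≤ Q → f ∉ Q → Q ≤ p' := by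
    intro Q hQ hle hfQ
    have hd : Disjoint (Submonoid.powers f : Set A) (Q : Set A) := by
      rw [Set.disjoint_left]
      rintro _ ⟨k, rfl⟩ h
      exact hfQ (hQ.mem_of_pow_mem k h)
    have h1 := IsLocalization.comap_map_of_isPrime_disjoint (Submonoid.powers f) (Localization.Away f) hQ hd
    have h2 : M ≤ Q.map (algebraMap A (Localization.Away f)) :=
      (IsLocalization.map_comap (Submonoid.powers f) (Localization.Away f) M).ge.trans (Ideal.map_mono hle)
    have h3 : Q.map (algebraMap A (Localization.Away f)) ≠ ⊤ := fun h => hQ.ne_top (by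
      rw [← h1, Ideal.under_def, h, Ideal.comap_top])
    exact ((congrArg (Ideal.comap (algebraMap A (Localization.Away f))) (hM.eq_of_le h3 h2)).trans h1).ge
  obtain ⟨m, hm, hp'm⟩ := Ideal.exists_le_maximal p' Ideal.IsPrime.ne_top'
  have hfm : f ∈ m := by
    have : p.jacobson ≤ m := sInf_le ⟨hpp'.trans hp'm, hm⟩
    exact this hf
  let K := p'.ResidueField
  let A1 : Subring K := (algebraMap A K).range
  let m1 : Ideal A1 := m.map (algebraMap A K).rangeRestrict
  have hm1 : m1 ≠ ⊤ := by
    intro h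
    haveI := hm.isPrime
    have : RingHom.ker (algebraMap A K).rangeRestrict ≤ m := by
      intro a ha
      refine hp'm ((Ideal.algebraMap_residueField_eq_zero (I := p')).mp ?_)
      exact congrArg Subtype.val (RingHom.mem_ker.mp ha)
    exact (Ideal.map_isPrime_of_surjective (f := (algebraMap A K).rangeRestrict) (RingHom.rangeRestrict_surjective _) this).ne_top h
  obtain ⟨W, hW, hWm⟩ := Ideal.image_subset_nonunits_valuationSubring m1 hm1
  letI : Algebra A W := ((algebraMap A K).codRestrict W fun a => hW ⟨a, rfl⟩).toAlgebra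
  haveI : IsScalarTower A W K := IsScalarTower.of_algebraMap_eq fun _ => rfl
  have hmW : (IsLocalRing.maximalIdeal W).comap (algebraMap A W) = m := by
    refine (hm.eq_of_le (Ideal.comap_isPrime _ _).ne_top fun a ha => ?_).symm
    have h1 : algebraMap A K a ∈ (W.nonunits : Set K) :=
      hWm ⟨_, Ideal.mem_map_of_mem _ ha, rfl⟩
    rw [← ValuationSubring.image_maximalIdeal] at h1
    obtain ⟨y, hy, he⟩ := h1
    have : y = algebraMap A W a := Subtype.ext he
    subst this
    exact hy
  let C := TensorProduct A W B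
  have hne : (IsLocalRing.maximalIdeal W).map (algebraMap W C) ≠ ⊤ := by
    intro h
    have := Ideal.comap_map_eq_self_of_faithfullyFlat (B := C) (IsLocalRing.maximalIdeal W)
    rw [h, Ideal.comap_top] at this
    exact (IsLocalRing.maximalIdeal.isMaximal W).ne_top this.symm
  obtain ⟨P, q, hP, hq, hPq, hPbot, hqm, hPalg⟩ := exists_prime_algebraic hne
  let ι : B →+* C := Algebra.TensorProduct.includeRight.toRingHom
  have hιA : ι.comp (algebraMap A B) = (algebraMap W C).comp (algebraMap A W) := by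
    ext a
    exact ((Algebra.TensorProduct.includeRight : B →ₐ[A] C).commutes a).trans
      (IsScalarTower.algebraMap_apply A W C a)
  let PB : Ideal B := P.comap ι
  haveI : PB.IsPrime := Ideal.comap_isPrime _ _
  have hker : (⊥ : Ideal W).comap (algebraMap A W) = p' := by
    ext a
    rw [Ideal.mem_comap, Ideal.mem_bot, ← Ideal.algebraMap_residueField_eq_zero (I := p')]
    exact ⟨fun h => by rw [IsScalarTower.algebraMap_apply A W K, h, map_zero],
      fun h => Subtype.ext (by exact h)⟩
  have hPA : PB.comap (algebraMap A B) = p' := by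
    rw [Ideal.comap_comap, hιA, ← Ideal.comap_comap, hPbot, hker]
  have hfPB : f ∉ PB.comap (algebraMap A B) := by rw [hPA]; exact hfp'
  have hmax : ∀ Q : Ideal B, Q.IsPrime → PB ≤ Q → f ∉ Q.comap (algebraMap A B) → Q ≤ PB := by
    intro Q hQ hle hfQ x hx
    by_contra hxP
    have hQA : Q.comap (algebraMap A B) ≤ p' :=
      hmaxp' _ (Ideal.comap_isPrime _ _) (hPA ▸ Ideal.comap_mono hle) hfQ
    let A' := A ⧸ p'
    letI algW : Algebra A' W := (Ideal.Quotient.lift p' (algebraMap A W) fun a ha => by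
      rw [← hker] at ha; exact ha).toAlgebra
    haveI : IsScalarTower A' W K := IsScalarTower.of_algebraMap_eq fun a => by
      obtain ⟨a, rfl⟩ := Ideal.Quotient.mk_surjective a
      rfl
    haveI : Algebra.IsAlgebraic A' K := IsLocalization.isAlgebraic _ (nonZeroDivisors A')
    haveI : Algebra.IsAlgebraic A' W :=
      Algebra.IsAlgebraic.of_injective (IsScalarTower.toAlgHom A' W K) (fun a b h => Subtype.ext h)
    haveI : IsScalarTower A' W (C ⧸ P) := inferInstance
    letI algB : Algebra A' (B ⧸ PB) := (Ideal.quotientMap PB (algebraMap A B) hPA.ge).toAlgebra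
    let θ : B ⧸ PB →ₐ[A'] C ⧸ P :=
      { Ideal.quotientMap P ι (le_refl PB) with
        commutes' := fun a => by
          obtain ⟨a, rfl⟩ := Ideal.Quotient.mk_surjective a
          exact congrArg (Ideal.Quotient.mk P) (congrFun (congrArg DFunLike.coe hιA) a) }
    have hy : IsAlgebraic A' (θ (Ideal.Quotient.mk PB x)) :=
      (Algebra.IsAlgebraic.isAlgebraic (R := W) _).restrictScalars A'
    have hy' : IsAlgebraic A' (Ideal.Quotient.mk PB x) :=
      (isAlgebraic_algHom_iff θ Ideal.quotientMap_injective).mp hy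
    obtain ⟨a, ha, b, hab⟩ := hy'.exists_nonzero_dvd
      (mem_nonZeroDivisors_of_ne_zero fun h => hxP (Ideal.Quotient.eq_zero_iff_mem.mp h))
    obtain ⟨b, rfl⟩ := Ideal.Quotient.mk_surjective b
    obtain ⟨a, rfl⟩ := Ideal.Quotient.mk_surjective a
    rw [← map_mul] at hab
    replace hab : algebraMap A B a - x * b ∈ PB := Ideal.Quotient.eq.mp hab
    have : algebraMap A B a ∈ Q := by
      have := Q.add_mem (hle hab) (Q.mul_mem_right b hx)
      simpa using this
    exact ha (Ideal.Quotient.eq_zero_iff_mem.mpr (hQA this))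
  have hPBmax : PB.IsMaximal := by
    have hj : PB.jacobson = PB := isJacobsonRing_iff_prime_eq.mp inferInstance PB inferInstance
    obtain ⟨N, hN, hfN⟩ : ∃ N : Ideal B, (PB ≤ N ∧ N.IsMaximal) ∧ algebraMap A B f ∉ N := by
      by_contra! h
      exact hfPB (hj.le (Ideal.mem_sInf.mpr fun {N} hN => h N hN))
    rw [le_antisymm hN.1 (hmax N hN.2.isPrime hN.1 hfN)]
    exact hN.2
  have heq : PB = q.comap ι :=
    hPBmax.eq_of_le (Ideal.comap_isPrime _ _).ne_top (Ideal.comap_mono hPq)
  refine hfp' ?_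
  rw [← hPA, heq, Ideal.comap_comap, hιA, ← Ideal.comap_comap, hqm, hmW]
  exact hfm

end Groth.Agent.JacDesc
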